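import Groth.Agent.CohFinite.Linear
import Groth.Agent.CohFinite.Proper
import Groth.Agent.CurveRR.Euler
import Groth.Agent.W7Cech.GlobSec
import Groth.Agent.CohFinite.RPushCoh
import Groth.Agent.W7Proj.NegAffine
import Groth.Agent.TMul.GlobGen
import Groth.Agent.RefStalk.Coherent
import Groth.Agent.Devissage.Power
import Groth.Agent.ProjMor.Exists

/-!
Right exactness of `H¹` and the criterion: when `H¹(O) = 0` and every nonzero quotient of `L` has a
nonzero section, `L` is generated by its sections and has no `H¹`.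
-/

set_option autoImplicit false
set_option backward.isDefEq.respectTransparency false
set_option linter.style.haveILetI false
set_option linter.unusedSectionVars false

universe u

open CategoryTheory CategoryTheory.Limits AlgebraicGeometry TopologicalSpace
open Groth.Agent.CohFinite

noncomputable section

namespace Groth.Agent.H1Triv

variable {X : Scheme.{u}} (A : Type u) [CommRing A] [X.Over (Spec (CommRingCat.of A))]

theorem surjective_of_h_next {S : ShortComplex X.Modules} (hS : S.ShortExact) (q : ℕ)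
    (h : Subsingleton (Coh.HH X S.X₁ (q + 1))) : Function.Surjective (hhMap A S.g q) := fun x =>
  (δH_eq_zero_iff (shortExact_toAb hS) q x).1 (h.elim _ _)

variable [IsNoetherian X] (hv : ∀ M : X.Modules, Coh.IsCoh M → Subsingleton (Coh.HH X M 2))

include hv

/-- `H¹` preserves surjections. -/
theorem surjective_h1_of_epi {M N : X.Modules} (hM : Coh.IsCoh M) (hN : Coh.IsCoh N) (φ : M ⟶ N) [Epi φ] :
    Function.Surjective (hhMap A φ 1) :=
  surjective_of_h_next A (W7Proj.shortExact_kernel φ) 1 (hv _ (QC.isCoh_kernel hM hN.1 φ))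

include A in
theorem subsingleton_h1_of_epi {M N : X.Modules} (hM : Coh.IsCoh M) (hN : Coh.IsCoh N) (φ : M ⟶ N) [Epi φ]
    (h : Subsingleton (Coh.HH X M 1)) : Subsingleton (Coh.HH X N 1) :=
  (surjective_h1_of_epi A hv hM hN φ).subsingleton

include A in
/-- If every nonzero coherent quotient of `L` has a nonzero section, `L` is generated and `H¹(L) = 0`. -/
theorem generated_and_h1 (L : X.Modules) (hL : Coh.IsCoh L) [Module.Finite A (Coh.HH X L 0)]
    (hO : Subsingleton (Coh.HH X (Coh.structureModule X) 1))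
    (hpos : ∀ (G : X.Modules) (π : L ⟶ G), Epi π → Coh.IsCoh G → ¬ IsZero G → ¬ Subsingleton Γ(G, ⊤)) :
    Curv2.IsGloballyGenerated L ∧ Subsingleton (Coh.HH X L 1) := by
  obtain ⟨s, hs⟩ := (Module.finite_def.1 ‹Module.Finite A (Coh.HH X L 0)›)
  let n := s.card
  let t : Fin n → Γ(L, ⊤) := fun j => (W7Cech.gsH0 A L).symm (s.equivFin.symm j).1
  let p : (∐ fun _ : Fin n => Coh.structureModule X) ⟶ L := Sigma.desc fun j => TMul.homOf (t j)
  have hOc : Coh.IsCoh (Coh.structureModule X) := RefStalk.isCoh_structureModule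
  have hP : Coh.IsCoh (∐ fun _ : Fin n => Coh.structureModule X) :=
    CohFinite.isCoh_of_iso (biproduct.isoCoproduct fun _ : Fin n => Coh.structureModule X) (Devissage.isCoh_biproduct _ fun _ => hOc)
  have hP1 : Subsingleton (Coh.HH X (∐ fun _ : Fin n => Coh.structureModule X) 1) :=
    W7Proj.subsingleton_hh_sigma hO n
  have hG : Coh.IsCoh (cokernel p) := QC.isCoh_cokernel hP.1 hL p
  let K := kernel (cokernel.π p)
  have hK : Coh.IsCoh K := QC.isCoh_kernel hL hG.1 _
  haveI : Epi (kernel.lift (cokernel.π p) p (cokernel.condition p)) :=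
    inferInstanceAs (Epi (Abelian.factorThruImage p))
  have hK1 : Subsingleton (Coh.HH X K 1) :=
    subsingleton_h1_of_epi A hv hP hK (kernel.lift (cokernel.π p) p (cokernel.condition p)) hP1
  have hS := W7Proj.shortExact_kernel (cokernel.π p)
  have hsurj : Function.Surjective (hhMap A (cokernel.π p) 0) := surjective_of_h_next A hS 0 hK1
  have hzero : hhMap A (cokernel.π p) 0 = 0 := by
    refine LinearMap.ext_on hs fun x hx => ?_
    have hx' : x = W7Cech.gsH0 A L (t (s.equivFin ⟨x, hx⟩)) := by simp [t]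
    rw [hx', LinearMap.zero_apply]
    refine (W7Cech.gsH0_natural A (cokernel.π p) _).symm.trans ?_
    have h0 : (cokernel.π p).app ⊤ (t (s.equivFin ⟨x, hx⟩)) = 0 := by
      have e : TMul.homOf (t (s.equivFin ⟨x, hx⟩)) ≫ cokernel.π p = 0 := by
        rw [show TMul.homOf (t (s.equivFin ⟨x, hx⟩)) =
          Sigma.ι (fun _ : Fin n => Coh.structureModule X) (s.equivFin ⟨x, hx⟩) ≫ p from
            (Sigma.ι_desc (fun j => TMul.homOf (t j)) (s.equivFin ⟨x, hx⟩)).symm, Category.assoc, cokernel.condition, comp_zero]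
      rw [← ProjMor.homOf_app] at e
      have h2 := congrArg (fun ψ => TMul.val ψ ⊤) e
      simp only [TMul.val_homOf, QC.res_self] at h2
      exact h2.trans rfl
    exact (congrArg (W7Cech.gsH0 A _) h0).trans (map_zero _)
  have hG0 : Subsingleton Γ(cokernel p, ⊤) := by
    haveI : Subsingleton (Coh.HH X (cokernel p) 0) := subsingleton_of_forall_eq 0 fun y => by
      obtain ⟨x, rfl⟩ := hsurj y
      rw [hzero, LinearMap.zero_apply]
    exact (W7Cech.gsH0 A (cokernel p)).toEquiv.subsingleton
  have hz : IsZero (cokernel p) := by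
    by_contra h
    exact hpos _ (cokernel.π p) inferInstance hG h hG0
  haveI : Epi p := Preadditive.epi_of_isZero_cokernel p hz
  refine ⟨⟨ULift.{u} (Fin n), (Sigma.desc fun j => TMul.homOf (t j.down) :
    (SheafOfModules.free (R := X.ringCatSheaf) (ULift.{u} (Fin n)) : X.Modules) ⟶ L), ?_⟩,
    subsingleton_h1_of_epi A hv hP hL p hP1⟩
  refine ⟨fun {Z} g h e => (cancel_epi p).1 (Sigma.hom_ext _ _ fun j => ?_)⟩
  have hj := congrArg (fun ψ => Sigma.ι (fun _ : ULift.{u} (Fin n) => SheafOfModules.unit X.ringCatSheaf) ⟨j⟩ ≫ ψ) e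
  simp only [p, Sigma.ι_desc_assoc] at hj ⊢
  exact hj

end Groth.Agent.H1Triv
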