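import Groth.Agent.H1Triv.Basic
import Groth.Agent.Nakai.SurfSeq
import Groth.Agent.Nakai.NefApps
import Groth.Agent.Nakai.FibreDeg
import Groth.Agent.W7Slope.Twist
import Groth.Agent.W7Hull.InvDual

/-!
One-dimensional proper schemes with `H¹(O) = 0`: nef invertible modules are generated and have no `H¹`.
-/

set_option autoImplicit false
set_option backward.isDefEq.respectTransparency false
set_option linter.style.haveILetI false
set_option linter.unusedSectionVars false

universe u

open CategoryTheory CategoryTheory.Limits AlgebraicGeometry TopologicalSpace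
open Groth.Agent.CohFinite

noncomputable section

namespace Groth.Agent.H1Triv

variable (k : Type u) [Field k] {X : Scheme.{u}} [X.Over (Spec (CommRingCat.of k))]
  [IsProper (X ↘ Spec (CommRingCat.of k))] (hdim : topologicalKrullDim X ≤ 1)
  (hO : Subsingleton (Coh.HH X (Coh.structureModule X) 1))

include k hdim hO

/-- A nonzero quotient of a nef invertible module has a section. -/
theorem not_subsingleton_quotient {L : X.Modules} (hL : PicF.IsInvertible L) (hn : Nakai.Nef k L)
    (G : X.Modules) (π : L ⟶ G) (hπ : Epi π) (hG : Coh.IsCoh G) (hne : ¬ IsZero G) :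
    ¬ Subsingleton Γ(G, ⊤) := by
  haveI := CurveRR.isNoetherian_of_proper k X
  haveI := hπ
  obtain ⟨L', hL', ⟨e⟩⟩ := W7Hull.exists_tensor_inverse hL
  let G' := CohB1.tensorMod G L'
  have hG' : Coh.IsCoh G' := Intersect.isCoh_twist k hG hL'
  haveI := W7Slope.epi_tmap hL' π
  let s : Coh.structureModule X ⟶ G' := e.inv ≫ tmap π L'
  haveI : Epi s := epi_comp e.inv _
  let back : CohB1.tensorMod G' L ≅ G := TMul.assocIso G L' L ≪≫
    PicGrp.tensorModIso (Iso.refl G) (TMul.commIso L' L ≪≫ e) ≪≫ SecTwist.unitorR G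
  have hs : s ≠ 0 := fun h => by
    have hz : IsZero G' := (IsZero.iff_id_eq_zero _).2 ((cancel_epi s).1 (by rw [h]; simp))
    refine hne ?_
    refine IsZero.of_iso ?_ back.symm
    haveI : Epi (tmap s L) := W7Slope.epi_tmap hL s
    exact (IsZero.iff_id_eq_zero _).2 ((cancel_epi (tmap s L)).1 (by
      rw [show tmap s L = tmap (0 : Coh.structureModule X ⟶ G') L from congrArg (tmap · L) (hz.eq_of_tgt _ _)]
      simp [CohFinite.tmap_zero]))
  have hv : ∀ M : X.Modules, Coh.IsCoh M → Subsingleton (Coh.HH X M 2) := fun M _ =>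
    CurveRR.subsingleton_of_two_le (k := k) hdim M 2 le_rfl
  have h1 : Subsingleton (Coh.HH X G' 1) :=
    subsingleton_h1_of_epi k hv RefStalk.isCoh_structureModule hG' s hO
  have hpos := Nakai.h0_pos_of_section k hG' hs
  have hle := hn G' hG' ((topologicalKrullDim_subspace_le X _).trans hdim)
  rw [CurveRR.euler_eq_of_iso back, CurveRR.euler_eq hdim, CurveRR.euler_eq hdim,
    CurveRR.h_eq_zero h1] at hle
  intro hsub
  letI := CurveRR.secMod k G ⊤
  haveI : Subsingleton (Coh.HH X G 0) := (CurveRR.secH0 (k := k) G).symm.toEquiv.subsingleton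
  rw [CurveRR.h_eq_zero (inferInstance : Subsingleton (Coh.HH X G 0))] at hle
  omega

/-- Nef invertible modules are generated and have no `H¹`. -/
theorem generated_and_h1_field {L : X.Modules} (hL : PicF.IsInvertible L) (hn : Nakai.Nef k L) :
    Curv2.IsGloballyGenerated L ∧ Subsingleton (Coh.HH X L 1) := by
  haveI := CurveRR.isNoetherian_of_proper k X
  haveI : Module.Finite k (Coh.HH X L 0) := CohFinite.finite_proper k X _ (CurveRR.isCoh_of_inv hL) 0
  exact generated_and_h1 k (fun M _ => CurveRR.subsingleton_of_two_le (k := k) hdim M 2 le_rfl) L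
    (CurveRR.isCoh_of_inv hL) hO fun G π hπ hG hne => not_subsingleton_quotient k hdim hO hL hn G π hπ hG hne

omit hdim hO in
/-- Nefness from degrees on integral curves. -/
theorem nef_of_deg {L : X.Modules} (hL : PicF.IsInvertible L)
    (h : ∀ J : X.IdealSheafData, IsIntegral J.subscheme → topologicalKrullDim J.subscheme = 1 →
      0 ≤ @Curv2.deg k _ J.subscheme ⟨J.subschemeι ≫ (X ↘ (Spec (CommRingCat.of k)))⟩
        ((Scheme.Modules.pullback J.subschemeι).obj L) 1) : Nakai.Nef k L := by
  refine (Nakai.nef_iff_curves k hL).2 fun C hC h1 => ?_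
  rw [← (Nakai.deg_quot_eq k C h1 hL).2]
  refine h C hC ?_
  rw [IsHomeomorph.topologicalKrullDim_eq _ C.subschemeι.isClosedEmbedding.isEmbedding.toHomeomorph.isHomeomorph,
    C.range_subschemeι, h1]

end Groth.Agent.H1Triv
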