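import Groth.Agent.H1Triv.Field
import Groth.Agent.PicSmooth.Curve
import Groth.Agent.W7Adic.Ample
import Groth.Agent.W7Exist.Completion
import Groth.Agent.FormAlg.Thicken
import Groth.Agent.FormAlg.FinLim
import Groth.Agent.SupportLib.Unit
import Groth.Agent.DQPush.Affine
import Groth.Agent.SupportLib.Pull
import Groth.Agent.CurveRR.Multi
import Groth.Agent.S0012

/-!
Proper schemes over a Noetherian ring with fibres of dimension `≤ 1` and `H¹(O) = 0`: relatively nef
invertible modules are generated and have no `H¹`.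
-/

set_option autoImplicit false
set_option backward.isDefEq.respectTransparency false
set_option backward.isDefEq.respectTransparency.types false
set_option linter.style.haveILetI false
set_option linter.unusedSectionVars false

universe u

open CategoryTheory CategoryTheory.Limits AlgebraicGeometry TopologicalSpace
open Groth.Agent.CohFinite

noncomputable section

namespace Groth.Agent.H1Triv

/-- Degrees are invariant under isomorphisms over the base. -/
theorem deg_iso_scheme (k : Type u) [Field k] {C K : Scheme.{u}} (θ : C ⟶ K) [IsIso θ]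
    (q : C ⟶ Spec (CommRingCat.of k)) (q' : K ⟶ Spec (CommRingCat.of k)) (h : θ ≫ q' = q) [IsProper q]
    {M : K.Modules} (hM : PicF.IsInvertible M) (n : ℕ) :
    @Curv2.deg k _ C ⟨q⟩ ((Scheme.Modules.pullback θ).obj M) n = @Curv2.deg k _ K ⟨q'⟩ M n := by
  subst h
  letI : K.Over (Spec (CommRingCat.of k)) := ⟨q'⟩
  letI : C.Over (Spec (CommRingCat.of k)) := ⟨θ ≫ q'⟩
  haveI : IsProper q' := by
    rw [show q' = inv θ ≫ θ ≫ q' by simp]
    infer_instance
  haveI : IsProper (K ↘ Spec (CommRingCat.of k)) := ‹_›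
  haveI := CurveRR.unitToPush_isIso θ
  have e1 := CurveRR.Multi.euler_push k θ _ (TMul.isQCoh_of_isInvertible (PicLoc.isInvertible_pullback θ hM))
  have e2 := CurveRR.Multi.euler_push k θ (Coh.structureModule C) (TMul.isQCoh_of_isInvertible TMul.isInvertible_structureModule)
  haveI : IsIso ((Scheme.Modules.pullbackPushforwardAdjunction θ).unit.app M) :=
    (SupportLib.isIso_unit_iff θ M).2 fun U a ha s => by
      have hker : θ.ker = ⊥ := Scheme.Hom.ker_eq_bot _
      rw [hker, Scheme.IdealSheafData.ideal_bot] at ha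
      rw [show a = 0 from ha, zero_smul]
  have a1 : Curv2.euler k K ((Scheme.Modules.pushforward θ).obj ((Scheme.Modules.pullback θ).obj M)) =
      Curv2.euler k K M :=
    CurveRR.euler_eq_of_iso ((asIso ((Scheme.Modules.pullbackPushforwardAdjunction θ).unit.app M)).symm)
  have a2 : Curv2.euler k K ((Scheme.Modules.pushforward θ).obj (Coh.structureModule C)) =
      Curv2.euler k K (Coh.structureModule K) :=
    CurveRR.euler_eq_of_iso (asIso (ClSub.unitToPush θ)).symm
  rw [Curv2.deg, Curv2.deg, ← a1, ← a2]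
  exact congrArg₂ (fun a b : ℤ => a - (n : ℤ) * b) e1.symm e2.symm

variable {A : Type u} [CommRing A] [IsNoetherianRing A] {X : Scheme.{u}} [X.Over (Spec (CommRingCat.of A))]
  [IsProper (X ↘ Spec (CommRingCat.of A))]

theorem isNoetherian_of_proper_ring (A : Type u) [CommRing A] [IsNoetherianRing A] {X : Scheme.{u}}
    [X.Over (Spec (CommRingCat.of A))] [IsProper (X ↘ Spec (CommRingCat.of A))] : IsNoetherian X :=
  haveI : IsLocallyNoetherian X := LocallyOfFiniteType.isLocallyNoetherian (X ↘ Spec (CommRingCat.of A))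
  haveI : CompactSpace X := QuasiCompact.compactSpace_of_compactSpace (X ↘ Spec (CommRingCat.of A))
  {}

variable (A) in
/-- `L` has non-negative degree on the curves contracted to a point. -/
def RelNef (L : X.Modules) : Prop :=
  ∀ (K : Type u) [Field K] (i : A →+* K) (J : X.IdealSheafData) (t : J.subscheme ⟶ Spec (CommRingCat.of K)),
    IsIntegral J.subscheme → topologicalKrullDim ↥J.subscheme = 1 →
    t ≫ Spec.map (CommRingCat.ofHom i) = J.subschemeι ≫ (X ↘ Spec (CommRingCat.of A)) →
    0 ≤ @Curv2.deg K _ J.subscheme ⟨t⟩ ((Scheme.Modules.pullback J.subschemeι).obj L) 1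

variable (hd : ∀ y, topologicalKrullDim ↥((X ↘ Spec (CommRingCat.of A)).fiber y) ≤ 1)

include hd in
theorem h2_vanish (M : X.Modules) (hM : Coh.IsCoh M) : Subsingleton (Coh.HH X M 2) :=
  PicSmooth.subsingleton_hh_of_affine_base (X ↘ Spec (CommRingCat.of A)) 1 (by simpa using hd) M hM.1 2 (by omega)

variable (hO : Subsingleton (Coh.HH X (Coh.structureModule X) 1))
  {L : X.Modules} (hL : PicF.IsInvertible L) (hn : RelNef A L)

include hd hO hL hn in
/-- Coherent quotients of `L` killed by a maximal ideal. -/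
theorem fibre_quotient (m : Ideal A) [m.IsMaximal] (Q : X.Modules) (q : L ⟶ Q) [Epi q] (hQ : Coh.IsCoh Q)
    (hk : Formal.KilledBy m Q) :
    Subsingleton (Coh.HH X Q 1) ∧ (¬ IsZero Q → ¬ Subsingleton Γ(Q, ⊤)) := by
  haveI := isNoetherian_of_proper_ring A (X := X)
  let f := X ↘ Spec (CommRingCat.of A)
  let Z := CohB1.thick f m 0
  let j : Z ⟶ X := CohB1.thickι f m 0
  haveI : (m ^ (0 + 1)).IsMaximal := by rw [pow_one]; infer_instance
  letI : Field (A ⧸ m ^ (0 + 1)) := Ideal.Quotient.field _
  letI : Z.Over (Spec (CommRingCat.of (A ⧸ m ^ (0 + 1)))) := ⟨CohB1.thickToBase f m 0⟩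
  haveI : IsProper (Z ↘ Spec (CommRingCat.of (A ⧸ m ^ (0 + 1)))) :=
    inferInstanceAs (IsProper (pullback.snd f (CohB1.specQuot m 0)))
  haveI : IsClosedImmersion (CohB1.specQuot m 0) :=
    IsClosedImmersion.spec_of_surjective _ Ideal.Quotient.mk_surjective
  haveI : IsClosedImmersion j := inferInstanceAs (IsClosedImmersion (pullback.fst f (CohB1.specQuot m 0)))
  haveI := CurveRR.isNoetherian_of_proper (A ⧸ m ^ (0 + 1)) Z
  have hdim : topologicalKrullDim Z ≤ 1 := by
    let y : ↥(Spec (CommRingCat.of A)) := ⟨m, inferInstance⟩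
    have hsub : Set.range j ⊆ f ⁻¹' {y} := by
      rintro _ ⟨z, rfl⟩
      have e := congrArg (fun φ : Z ⟶ Spec (CommRingCat.of A) => φ z) (pullback.condition (f := f) (g := CohB1.specQuot m 0))
      change f (j z) = CohB1.specQuot m 0 (CohB1.thickToBase f m 0 z) at e
      obtain ⟨w, hw⟩ : ∃ w : PrimeSpectrum (A ⧸ m ^ (0 + 1)),
          f (j z) = PrimeSpectrum.comap (Ideal.Quotient.mk (m ^ (0 + 1))) w := ⟨CohB1.thickToBase f m 0 z, e⟩
      refine hw.trans (PrimeSpectrum.ext (Ideal.IsMaximal.eq_of_le inferInstance ?_ ?_).symm)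
      · exact (PrimeSpectrum.comap (Ideal.Quotient.mk (m ^ (0 + 1))) w).isPrime.ne_top
      · intro a ha
        rw [PrimeSpectrum.comap_asIdeal, Ideal.mem_comap, Ideal.Quotient.eq_zero_iff_mem.2 (by rwa [pow_one])]
        exact Ideal.zero_mem _
    have h1 : topologicalKrullDim Z ≤ topologicalKrullDim (f ⁻¹' {y} : Set X) :=
      Topology.IsInducing.topologicalKrullDim_le (f := fun z : Z => (⟨j z, hsub ⟨z, rfl⟩⟩ : f ⁻¹' {y}))
        (Topology.IsInducing.subtypeVal.of_comp_iff.mp j.isClosedEmbedding.isInducing)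
    exact h1.trans ((IsHomeomorph.topologicalKrullDim_eq _ (f.fiberHomeo y).isHomeomorph).symm.le.trans (hd y))
  have hO' : Subsingleton (Coh.HH Z (Coh.structureModule Z) 1) := by
    obtain ⟨α⟩ := W7Adic.nonempty_modPow_thick m f 0 (N := Coh.structureModule X) RefStalk.isCoh_structureModule
    haveI : Epi (Formal.modPowπ m (0 + 1) (Coh.structureModule X) ≫ α.hom ≫
        (Scheme.Modules.pushforward j).map (DerPerf.pullUnitIso j).hom) := by
      haveI := W7Exist.epi_modPowπ m (0 + 1) (Coh.structureModule X)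
      infer_instance
    haveI : (Coh.structureModule Z).IsQuasicoherent := RefStalk.isCoh_structureModule.1
    have hc : Coh.IsCoh ((Scheme.Modules.pushforward j).obj (Coh.structureModule Z)) :=
      QC.isCoh_pushforward_of_isFinite j RefStalk.isCoh_structureModule.2
    have h1 := subsingleton_h1_of_epi A (h2_vanish hd) RefStalk.isCoh_structureModule hc
      (Formal.modPowπ m (0 + 1) (Coh.structureModule X) ≫ α.hom ≫
        (Scheme.Modules.pushforward j).map (DerPerf.pullUnitIso j).hom) hO
    haveI : Coh.IsQCoh (Coh.structureModule Z) := RefStalk.isCoh_structureModule.1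
    obtain ⟨a⟩ := Groth.Agent.S0012.result j (Coh.structureModule Z) 1
    exact @Equiv.subsingleton _ _ a.toEquiv h1
  have hn' : Nakai.Nef (A ⧸ m ^ (0 + 1)) ((Scheme.Modules.pullback j).obj L) := by
    refine nef_of_deg (A ⧸ m ^ (0 + 1)) (PicLoc.isInvertible_pullback j hL) fun J hJ hJd => ?_
    let c := J.subschemeι ≫ j
    haveI : IsIso c.toImage := inferInstance
    have hK : IsIntegral c.ker.subscheme := IsIntegral.of_isIso c.toImage
    let t : c.ker.subscheme ⟶ Spec (CommRingCat.of (A ⧸ m ^ (0 + 1))) :=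
      inv c.toImage ≫ J.subschemeι ≫ CohB1.thickToBase f m 0
    have h := hn (A ⧸ m ^ (0 + 1)) (Ideal.Quotient.mk _) c.ker t hK
      ((IsHomeomorph.topologicalKrullDim_eq _ (asIso c.toImage).schemeIsoToHomeo.isHomeomorph).symm.trans hJd)
      (by
        change (inv c.toImage ≫ J.subschemeι ≫ CohB1.thickToBase f m 0) ≫ CohB1.specQuot m 0 =
          c.ker.subschemeι ≫ f
        rw [← cancel_epi c.toImage]
        simp only [Category.assoc, IsIso.hom_inv_id_assoc]
        rw [← pullback.condition (f := f) (g := CohB1.specQuot m 0)]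
        change J.subschemeι ≫ j ≫ f = c.toImage ≫ c.imageι ≫ f
        rw [Scheme.Hom.toImage_imageι_assoc]
        exact (Category.assoc _ _ _).symm)
    haveI : IsProper (J.subschemeι ≫ CohB1.thickToBase f m 0) := inferInstance
    rw [← deg_iso_scheme (A ⧸ m ^ (0 + 1)) c.toImage (J.subschemeι ≫ CohB1.thickToBase f m 0) t (by simp [t])
      (PicLoc.isInvertible_pullback _ hL)] at h
    letI : J.subscheme.Over (Spec (CommRingCat.of (A ⧸ m ^ (0 + 1)))) := ⟨J.subschemeι ≫ CohB1.thickToBase f m 0⟩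
    haveI : IsProper (J.subscheme ↘ Spec (CommRingCat.of (A ⧸ m ^ (0 + 1)))) := ‹_›
    refine h.trans_eq (W7Slope.deg_iso ?_ 1)
    exact (Scheme.Modules.pullbackComp c.toImage c.imageι).app L ≪≫
      (Scheme.Modules.pullbackCongr c.toImage_imageι).app L ≪≫
      ((Scheme.Modules.pullbackComp J.subschemeι j).app L).symm
  haveI := W7Exist.epi_modPowπ m (0 + 1) Q
  have hπ : IsIso (Formal.modPowπ m (0 + 1) Q) := by
    obtain ⟨g, hg⟩ := W7Exist.exists_desc_modPow (I := m) (0 + 1) (𝟙 Q) fun a ha => by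
      rw [hk a (by rwa [pow_one] at ha), zero_comp]
    haveI : IsSplitMono (Formal.modPowπ m (0 + 1) Q) := ⟨⟨g, hg⟩⟩
    exact isIso_of_mono_of_epi _
  obtain ⟨α⟩ := W7Adic.nonempty_modPow_thick m f 0 hQ
  let ε : Q ≅ (Scheme.Modules.pushforward j).obj ((Scheme.Modules.pullback j).obj Q) :=
    asIso (Formal.modPowπ m (0 + 1) Q) ≪≫ α
  let qZ := (Scheme.Modules.pullback j).map q
  haveI : Epi qZ := inferInstance
  have hQZ : Coh.IsCoh ((Scheme.Modules.pullback j).obj Q) := QC.isCoh_pullback j hQ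
  haveI : Coh.IsQCoh ((Scheme.Modules.pullback j).obj Q) := hQZ.1
  refine ⟨?_, fun hne hs => ?_⟩
  · have h1 : Subsingleton (Coh.HH Z ((Scheme.Modules.pullback j).obj Q) 1) :=
      subsingleton_h1_of_epi (A ⧸ m ^ (0 + 1))
        (fun M _ => CurveRR.subsingleton_of_two_le (k := A ⧸ m ^ (0 + 1)) hdim M 2 le_rfl)
        (CurveRR.isCoh_of_inv (PicLoc.isInvertible_pullback j hL)) hQZ qZ
        (generated_and_h1_field (A ⧸ m ^ (0 + 1)) hdim hO' (PicLoc.isInvertible_pullback j hL) hn').2
    obtain ⟨a⟩ := Groth.Agent.S0012.result j ((Scheme.Modules.pullback j).obj Q) 1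
    exact CohQC.hh_subsingleton_of_iso ε.symm 1 (a.symm.toEquiv.subsingleton)
  · refine not_subsingleton_quotient (A ⧸ m ^ (0 + 1)) hdim hO' (PicLoc.isInvertible_pullback j hL) hn' _ qZ
      inferInstance hQZ (fun hz => hne ?_) ?_
    · exact IsZero.of_iso ((Scheme.Modules.pushforward j).map_isZero hz) ε
    · refine (Function.Surjective.subsingleton (f := fun s => ε.hom.app ⊤ s) ?_)
      exact fun s => ⟨ε.inv.app ⊤ s, by
        change (ε.inv ≫ ε.hom).app ⊤ s = s
        rw [ε.inv_hom_id]; rfl⟩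

omit [IsNoetherianRing A] [IsProper (X ↘ Spec (CommRingCat.of A))] in
/-- The ideal of scalars killing a module. -/
theorem killedBy_span (Q : X.Modules) (s : Set A) (h : ∀ a ∈ s, Formal.smulMod A Q a = 0) :
    Formal.KilledBy (Ideal.span s) Q := fun a ha => by
  induction ha using Submodule.span_induction with
  | mem x hx => exact h x hx
  | zero => exact W7Exist.smulMod_zero Q
  | add x y _ _ hx hy => rw [W7Exist.smulMod_add, hx, hy, add_zero]
  | smul c x _ hx => rw [smul_eq_mul, mul_comm, ← W7Exist.smulMod_comp, hx]; simp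

/-- Dividing a coherent module by finitely many scalars. -/
theorem exists_quot (hv : ∀ M : X.Modules, Coh.IsCoh M → Subsingleton (Coh.HH X M 2)) (l : List A)
    {G : X.Modules} (hG : Coh.IsCoh G) :
    ∃ (Q : X.Modules) (q : G ⟶ Q), Epi q ∧ Coh.IsCoh Q ∧ (∀ a ∈ l, Formal.smulMod A Q a = 0) ∧
      (∀ (T : X.Modules) (ψ : G ⟶ T), (∀ a ∈ l, Formal.smulMod A G a ≫ ψ = 0) → ∃ g : Q ⟶ T, q ≫ g = ψ) ∧
      Function.Surjective (hhMap A q 1) ∧
      LinearMap.ker (hhMap A q 1) ≤ Ideal.span {a | a ∈ l} • (⊤ : Submodule A (Coh.HH X G 1)) ∧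
      (Subsingleton (Coh.HH X G 1) → Function.Surjective (hhMap A q 0)) := by
  haveI := isNoetherian_of_proper_ring A (X := X)
  induction l with
  | nil =>
    refine ⟨G, 𝟙 G, inferInstance, hG, by simp, fun T ψ _ => ⟨ψ, Category.id_comp _⟩,
      fun x => ⟨x, hhMap_id A G 1 x⟩, fun x hx => ?_, fun _ x => ⟨x, hhMap_id A G 0 x⟩⟩
    rw [LinearMap.mem_ker, hhMap_id] at hx
    rw [hx]
    exact zero_mem _
  | cons a l ih =>
    obtain ⟨Q, q, hq, hQ, hkill, hfac, hs1, hk1, hs0⟩ := ih
    haveI := hq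
    let r := cokernel.π (Formal.smulMod A Q a)
    have hQ' : Coh.IsCoh (cokernel (Formal.smulMod A Q a)) := QC.isCoh_cokernel hQ.1 hQ _
    haveI : Epi (q ≫ r) := epi_comp q r
    let K := kernel r
    have hK : Coh.IsCoh K := QC.isCoh_kernel hQ hQ'.1 r
    let u := kernel.lift r (Formal.smulMod A Q a) (cokernel.condition _)
    haveI : Epi u := inferInstanceAs (Epi (Abelian.factorThruImage (Formal.smulMod A Q a)))
    have hu : u ≫ kernel.ι r = Formal.smulMod A Q a := kernel.lift_ι _ _ _
    have hS := W7Proj.shortExact_kernel r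
    have hsu := surjective_h1_of_epi A hv hQ hK u
    refine ⟨_, q ≫ r, inferInstance, hQ', fun b hb => ?_, fun T ψ hψ => ?_, ?_, ?_, fun h1 => ?_⟩
    · rw [← cancel_epi r, comp_zero, ← W7Cech.smulMod_natural]
      rcases List.mem_cons.1 hb with rfl | hb
      · exact cokernel.condition _
      · rw [hkill b hb, zero_comp]
    · obtain ⟨g, hg⟩ := hfac T ψ fun b hb => hψ b (List.mem_cons_of_mem _ hb)
      refine ⟨cokernel.desc _ g ((cancel_epi q).1 ?_), ?_⟩
      · rw [comp_zero, ← Category.assoc, ← W7Cech.smulMod_natural, Category.assoc, hg, hψ a List.mem_cons_self]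
      · rw [Category.assoc, cokernel.π_desc, hg]
    · intro z
      obtain ⟨y, hy⟩ := surjective_of_h_next A hS 1 (hv _ hK) z
      obtain ⟨x, hx⟩ := hs1 y
      exact ⟨x, by rw [hhMap_comp, hx]; exact hy⟩
    · intro x hx
      rw [LinearMap.mem_ker, hhMap_comp] at hx
      have hmem : hhMap A q 1 x ∈ LinearMap.range (hhMap A (kernel.ι r) 1) :=
        (map_g_eq_zero_iff (shortExact_toAb hS) 1 _).1 hx
      obtain ⟨w, hw⟩ := hmem
      obtain ⟨v, rfl⟩ := hsu w
      rw [← hhMap_comp, hu, FormAlg.hhMap_smulMod] at hw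
      obtain ⟨y, rfl⟩ := hs1 v
      have hker : x - a • y ∈ LinearMap.ker (hhMap A q 1) := by
        rw [LinearMap.mem_ker, map_sub, map_smul, hw, sub_self]
      have e : x = (x - a • y) + a • y := (sub_add_cancel _ _).symm
      rw [e]
      refine add_mem (Submodule.smul_mono_left (Ideal.span_mono fun b hb => List.mem_cons_of_mem _ hb) (hk1 hker))
        (Submodule.smul_mem_smul (Ideal.subset_span List.mem_cons_self) trivial)
    · intro z
      have hQ1 : Subsingleton (Coh.HH X Q 1) := hs1.subsingleton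
      obtain ⟨y, hy⟩ := surjective_of_h_next A hS 0 (hsu.subsingleton) z
      obtain ⟨x, hx⟩ := hs0 h1 y
      exact ⟨x, by rw [hhMap_comp, hx]; exact hy⟩

include hd hO hL hn

theorem subsingleton_h1_rel : Subsingleton (Coh.HH X L 1) := by
  haveI := isNoetherian_of_proper_ring A (X := X)
  have hLc : Coh.IsCoh L := CurveRR.isCoh_of_inv hL
  haveI := CohFinite.finite_proper A X L hLc 1
  have hann : Module.annihilator A (Coh.HH X L 1) = ⊤ := by
    by_contra h
    obtain ⟨m, hm, hle⟩ := Ideal.exists_le_maximal _ h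
    haveI := hm
    obtain ⟨s, hs⟩ := IsNoetherian.noetherian m
    obtain ⟨Q, q, hq, hQ, hkill, -, -, hker, -⟩ := exists_quot (h2_vanish hd) s.toList hLc
    haveI := hq
    have hset : Ideal.span {a | a ∈ s.toList} = m := by
      rw [show {a | a ∈ s.toList} = (s : Set A) by ext a; simp]
      exact hs
    have hkm : Formal.KilledBy m Q := hset ▸ killedBy_span Q _ hkill
    haveI := (fibre_quotient hd hO hL hn m Q q hQ hkm).1
    obtain ⟨r, hr, hr0⟩ := Submodule.exists_sub_one_mem_and_smul_eq_zero_of_fg_of_le_smul m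
      (⊤ : Submodule A (Coh.HH X L 1)) Module.Finite.fg_top fun x _ =>
        hset ▸ hker (LinearMap.mem_ker.2 (Subsingleton.elim _ _))
    have hrm : r ∈ m := hle (Module.mem_annihilator.2 fun x => hr0 x trivial)
    exact hm.ne_top ((Ideal.eq_top_iff_one m).2 (by simpa using m.sub_mem hrm hr))
  refine subsingleton_of_forall_eq 0 fun x => ?_
  have h1 : (1 : A) ∈ Module.annihilator A (Coh.HH X L 1) := hann ▸ trivial
  simpa using Module.mem_annihilator.1 h1 x

theorem generated_and_h1_rel : Curv2.IsGloballyGenerated L ∧ Subsingleton (Coh.HH X L 1) := by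
  haveI := isNoetherian_of_proper_ring A (X := X)
  have hLc : Coh.IsCoh L := CurveRR.isCoh_of_inv hL
  have hL1 := subsingleton_h1_rel hd hO hL hn
  haveI := CohFinite.finite_proper A X L hLc 0
  refine generated_and_h1 A (h2_vanish hd) L hLc hO fun G π hπ hG hne hsub => ?_
  haveI := hπ
  have hG1 := subsingleton_h1_of_epi A (h2_vanish hd) hLc hG π hL1
  obtain ⟨x, hx, hxc⟩ := (QC.isClosed_support hG.2).exists_closed_singleton
    (Set.nonempty_iff_ne_empty.2 fun h => hne (Devissage.isZero_of_support h))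
  let f := X ↘ Spec (CommRingCat.of A)
  let m := (f x).asIdeal
  haveI : m.IsMaximal := (PrimeSpectrum.isClosed_singleton_iff_isMaximal _).1 (by
    have := f.isClosedMap _ hxc
    rwa [Set.image_singleton] at this)
  obtain ⟨s, hs⟩ := IsNoetherian.noetherian m
  obtain ⟨Q, q, hq, hQ, hkill, hfac, -, -, hs0⟩ := exists_quot (h2_vanish hd) s.toList hG
  haveI := hq
  have hset : Ideal.span {a | a ∈ s.toList} = m := by
    rw [show {a | a ∈ s.toList} = (s : Set A) by ext a; simp]
    exact hs
  have hkm : Formal.KilledBy m Q := hset ▸ killedBy_span Q _ hkill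
  haveI : Epi (π ≫ q) := epi_comp π q
  have hQne : ¬ IsZero Q := fun hz => by
    obtain ⟨g, hg⟩ := hfac (Formal.modPow m (0 + 1) G) (Formal.modPowπ m (0 + 1) G) fun a ha => by
      have ham : a ∈ m ^ (0 + 1) := by
        rw [pow_one, ← hset]; exact Ideal.subset_span ha
      exact W7Exist.smulMod_π m (0 + 1) G a ham
    haveI := W7Exist.epi_modPowπ m (0 + 1) G
    obtain ⟨α⟩ := W7Adic.nonempty_modPow_thick m f 0 hG
    have hπ0 : Formal.modPowπ m (0 + 1) G = 0 := by rw [← hg, hz.eq_of_tgt q 0, zero_comp]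
    have hz' : IsZero (Formal.modPow m (0 + 1) G) := (IsZero.iff_id_eq_zero _).2
      ((cancel_epi (Formal.modPowπ m (0 + 1) G)).1 (by rw [hπ0]; simp))
    have hz'' := hz'.of_iso α.symm
    haveI : IsClosedImmersion (CohB1.specQuot m 0) :=
      IsClosedImmersion.spec_of_surjective _ Ideal.Quotient.mk_surjective
    haveI : IsClosedImmersion (CohB1.thickι f m 0) :=
      inferInstanceAs (IsClosedImmersion (pullback.fst f (CohB1.specQuot m 0)))
    obtain ⟨z, hzx⟩ : ∃ z, CohB1.thickι f m 0 z = x := by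
      obtain ⟨w, hw⟩ : f x ∈ Set.range (CohB1.specQuot m 0) := by
        change f x ∈ Set.range (PrimeSpectrum.comap (Ideal.Quotient.mk (m ^ (0 + 1))))
        rw [_root_.range_comap_of_surjective _ _ Ideal.Quotient.mk_surjective, Ideal.mk_ker]
        exact fun a ha => by rwa [pow_one] at ha
      obtain ⟨z, hz1, -⟩ := Scheme.Pullback.exists_preimage_pullback x w hw.symm
      exact ⟨z, hz1⟩
    haveI : Coh.IsQCoh G := hG.1
    have hz3 : IsZero ((Scheme.Modules.pullback (CohB1.thickι f m 0)).obj G) :=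
      DQPush.isZero_of_push (CohB1.thickι f m 0) (QC.isQCoh_pullback _ hG.1) hz''
    have h5 : z ∈ CohB1.support ((Scheme.Modules.pullback (CohB1.thickι f m 0)).obj G) := by
      rw [SupportLib.support_pullback _ G hG.2]
      exact Set.mem_preimage.2 (hzx.symm ▸ hx)
    rw [Devissage.support_of_isZero hz3] at h5
    exact h5
  refine (fibre_quotient hd hO hL hn m Q (π ≫ q) hQ hkm).2 hQne ?_
  haveI : Subsingleton ((CohIII.globalSectionsA A).obj G : Type u) := hsub
  haveI : Subsingleton (Coh.HH X G 0) := (W7Cech.gsH0 A G).symm.toEquiv.subsingleton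
  haveI : Subsingleton (Coh.HH X Q 0) := (hs0 hG1).subsingleton
  exact (W7Cech.gsH0 A Q).toEquiv.subsingleton

end Groth.Agent.H1Triv
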